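import Cfsg.Agent.Helper28.J1C.LvC1_0
import Cfsg.Agent.Helper28.J1C.LvC2_0
import Cfsg.Agent.Helper28.J1C.LvC3_0
set_option autoImplicit false
set_option maxRecDepth 1000000
namespace Cfsg.Agent.Helper28.J1C
open Cfsg.Agent.Helper28 Cfsg.Agent.Helper28.J1B
theorem orb_ok1 : checkOrbW ws1 2 ptabs orb1 = true := by
  have h0 : allLt (orbOkW ws1 2 ptabs orb1) 266 = true := allLt_extend _ 0 266 266 rfl (allLt_zero _) orb_ok1_p0
  exact h0
theorem orb_ok2 : checkOrbW ws2 2 ptabs orb2 = true := by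
  have h0 : allLt (orbOkW ws2 2 ptabs orb2) 266 = true := allLt_extend _ 0 266 266 rfl (allLt_zero _) orb_ok2_p0
  exact h0
theorem orb_ok3 : checkOrbW ws3 1 ptabs orb3 = true := by
  have h0 : allLt (orbOkW ws3 1 ptabs orb3) 266 = true := allLt_extend _ 0 266 266 rfl (allLt_zero _) orb_ok3_p0
  exact h0

theorem lower_bound : 175560 ≤ Nat.card ↥(KK idx 2 ptabs inv_ok layout.hL) := by
  have h3 := level_ge gen idx 2 ptabs inv_ok layout.hL layout.hig ws3 1 let_ok3 [1, 0] fix_ok3 orb3 orb_ok3 121 (by decide +kernel) 5 1 cnt3 (one_le_card_sub _)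
  have h2 := level_ge gen idx 2 ptabs inv_ok layout.hL layout.hig ws2 2 let_ok2 [0] fix_ok2 orb2 orb_ok2 1 (by decide +kernel) 132 (5 * 1) cnt2 h3
  have h1 := level_ge gen idx 2 ptabs inv_ok layout.hL layout.hig ws1 2 let_ok1 [] fix_ok1 orb1 orb_ok1 0 (by decide +kernel) 266 (132 * 5 * 1) cnt1 h2
  rw [card_level0N]
  exact le_trans (by norm_num) h1

end Cfsg.Agent.Helper28.J1C
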