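import Cfsg.Agent.Helper28.J1C.LvD1
set_option autoImplicit false
set_option maxRecDepth 1000000
namespace Cfsg.Agent.Helper28.J1C
open Cfsg.Agent.Helper28 Cfsg.Agent.Helper28.J1B
theorem orb_ok1_p0 : allLtFrom (orbOkW ws1 2 ptabs orb1) 0 266 = true := by decide +kernel
theorem let_ok1 : lettersOkW ws1 2 ptabs.L = true := by decide +kernel
theorem fix_ok1 : fixOkW ws1 2 ptabs [] = true := by decide +kernel
theorem cnt1 : countEq (fun j => oRoot (orb1 j)) 0 266 = 266 := by decide +kernel
theorem root_ok1 : allLt (fun i => Nat.beq (oRoot (orb1 i)) 0) ptabs.n = true := by decide +kernel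
end Cfsg.Agent.Helper28.J1C
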