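import Cfsg.Agent.Helper28.J1Sub
import Cfsg.Agent.Helper28.J1A.Main
import Cfsg.Agent.Helper28.J1K.Main
set_option autoImplicit false
set_option linter.constructorNameAsVariable false
namespace Cfsg.Agent.Helper28.J1C
open Cfsg.Agent.Helper28 Cfsg.Spor

theorem hY0 : J1A.Y = Set.range (fun z => FreeGroup.of (J1KD.iota z)) := by
  ext y
  constructor
  · intro (h : y ∈ J1A.Ylist)
    simp only [J1A.Ylist, List.mem_cons, List.not_mem_nil, or_false] at h
    rcases h with rfl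
    exact ⟨.b, rfl⟩
  · rintro ⟨z, rfl⟩
    show _ ∈ J1A.Ylist
    cases z <;> simp [J1A.Ylist, J1KD.iota]

theorem hY1 : J1K.Y = ∅ := by
  ext y; simp [J1K.Ylist]

theorem upper1 : Finite (PresentedGroup J1K.R) ∧ Nat.card (PresentedGroup J1K.R) = 3 :=
  card_of_index_bot J1K.R J1K.Y hY1 3 (by omega) J1K.main_index

theorem upper0 : Finite (PresentedGroup J1A.R) ∧
    Nat.card (PresentedGroup J1A.R) ≤ 58520 * 3 := by
  obtain ⟨h1, h2, -⟩ := card_le_of_link J1KD.iota J1K.R J1A.R J1KD.hrels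
    J1A.Y hY0 58520 (3) (by omega) J1A.main_index upper1.1 (le_of_eq upper1.2)
  exact ⟨h1, h2⟩

theorem upper : Finite (PresentedGroup J1A.R) ∧ Nat.card (PresentedGroup J1A.R) ≤ 175560 :=
  ⟨upper0.1, le_trans upper0.2 (by norm_num)⟩

end Cfsg.Agent.Helper28.J1C
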