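import Cfsg.Agent.Helper28.J1C.Chain
import Cfsg.Agent.Helper28.J1C.Upper
import Cfsg.Agent.Helper28.J1Q.Main
import Cfsg.Agent.Helper28.ChainMain2
set_option autoImplicit false
set_option maxRecDepth 1000000
namespace Cfsg.Agent.Helper28.J1C
open Cfsg.Agent.Helper28 Cfsg.Agent.Helper28.J1B Cfsg.Spor

theorem hrels : ∀ r ∈ J1B.R, rhoF idx 2 ptabs inv_ok layout.hL r = 1 :=
  layout.hrels inv_ok hperm_all

theorem card_inj : Nat.card (PresentedGroup J1B.R) = 175560 ∧
    Function.Injective (rhoG J1B.R idx 2 ptabs inv_ok layout.hL hrels) :=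
  card_eq_and_injective J1B.R idx 2 ptabs inv_ok layout.hL hrels 175560 upper.1 upper.2 lower_bound

/-- the word of `x ^ 7` -/
def wp : List Nat := [0, 2, 0, 2, 0, 2, 0, 2, 0, 2, 0, 2, 0, 2]

theorem hwp : ev gen 2 wp = J1QD.xw ^ 7 := by decide +kernel
theorem hletp : ∀ l ∈ wp, l < ptabs.L := by decide +kernel
theorem hrelp : relOk ptabs wp 0 ptabs.n = true := by decide +kernel

theorem hYQ : J1Q.Y = ∅ := by
  ext y; simp [J1Q.Ylist]

theorem hnc : ∀ Nn : Subgroup (PresentedGroup J1B.R), Nn.Normal →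
    PresentedGroup.mk J1B.R J1QD.xw ∈ Nn → Nn = ⊤ := by
  intro Nn hN hx
  refine normal_eq_top_of_collapse J1B.R J1Q.R J1QD.xw ?_
    (subsingleton_of_index_bot J1Q.R J1Q.Y hYQ J1Q.main_index) Nn hN hx
  intro r hr
  rcases hr with hr | hr
  · exact Or.inl (Or.inl hr)
  · have hr' : r ∈ J1P.extra ++ [J1QD.xw] := hr
    rcases List.mem_append.mp hr' with h | h
    · exact Or.inl (Or.inr h)
    · exact Or.inr (List.mem_singleton.mp h)

/-- sizes of the orbits of the point stabiliser -/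
def sz (t : ℕ) : ℕ := if t = 1 then 132 else if t = 0 then 1 else if t = 3 then 110 else if t = 7 then 11 else 12

theorem hsz : ∀ t ∈ [1, 0, 3, 7, 17].toFinset, countEq (fun j => oRoot (orb2 j)) t ptabs.n = sz t := by
  intro t ht
  simp only [List.toFinset_cons, List.toFinset_nil, Finset.mem_insert, Finset.mem_singleton,
    insert_empty_eq] at ht
  rcases ht with rfl | rfl | rfl | rfl | rfl
  · exact cnt2
  · exact cnt2_0
  · exact cnt2_3
  · exact cnt2_7
  · exact cnt2_17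

theorem hdiv : ∀ T ∈ ([1, 0, 3, 7, 17].toFinset : Finset ℕ).powerset, 0 ∈ T → (∑ t ∈ T, sz t) ∣ ptabs.n →
    T = {0} ∨ T = [1, 0, 3, 7, 17].toFinset ∨ 2 * (∑ t ∈ T, sz t) = ptabs.n := by
  decide

theorem simple : IsSimpleGroup (PresentedGroup J1B.R) :=
  simple_of_chain_half J1B.R gen idx 2 ptabs inv_ok layout.hL hrels 175560 upper.1 card_inj.1 card_inj.2
    layout.hig hn ws1 2 let_ok1 fix_ok1 orb1 orb_ok1 root_ok1
    ws2 2 let_ok2 fix_ok2 orb2 orb_ok2 [1, 0, 3, 7, 17].toFinset (rootsOkW_sound orb2 _ _ roots_ok2) sz hsz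
    (by decide +kernel) rfl hdiv J1QD.xw 7 (by decide) wp hwp hletp hrelp (by decide +kernel) hnc (by norm_num)

end Cfsg.Agent.Helper28.J1C
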